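import Cfsg.Agent.Lib.Helper3.J3.L2D
import Cfsg.Agent.Lib.Helper3.J3.Net

set_option autoImplicit false
set_option maxRecDepth 100000

namespace Cfsg.Agent.Lib.Helper3.J3.L2

open Cfsg.Agent.Lib.Helper11 Cfsg.Agent.Lib.Helper3

set_option maxHeartbeats 0

noncomputable def fc (i : ℕ) : ℕ := (Bool.rec (fc0_0 i) (fc0_1 i) (Nat.ble 16 i))
noncomputable def sc (i : ℕ) : ℕ := (Bool.rec (sc0_0 i) (sc0_1 i) (Nat.ble 16 i))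
noncomputable def nc (i : ℕ) : ℕ := (nc0_0 i)
noncomputable def cc (i : ℕ) : ℕ := (Bool.rec (Bool.rec (cc0_0 i) (cc0_1 i) (Nat.ble 16 i)) (Bool.rec (cc0_2 i) (cc0_3 i) (Nat.ble 48 i)) (Nat.ble 32 i))

def isH (l : ℕ) : Bool := decide (l ∈ [7])
def gens : List ℕ := [4, 5]
def hl : List ℕ := [7]
def dl : List (List ℕ × ℕ) := [([5], 6), ([6, 4, 5, 4, 6, 6, 4, 5, 5, 4, 5], 8), ([8], 7)]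
def BR : List (List ℕ) := [[], [6, 4, 5, 4, 6, 6, 4, 5, 5, 4, 5, 8], [5, 5, 5, 5, 5, 5, 5, 5, 5, 5], [6, 6, 6, 6, 6, 6, 6, 6, 6, 6], [4, 5, 4, 5, 4, 5, 4, 5, 4, 5, 4, 5, 4, 5, 4, 5, 4, 5, 4, 5], [4, 6, 4, 6, 4, 6, 4, 6, 4, 6, 4, 6, 4, 6, 4, 6, 4, 6, 4, 6], [4, 5, 4, 6, 4, 5, 4, 6, 4, 5, 4, 6, 4, 5, 4, 6, 4, 5, 4, 6], [4, 5, 5, 5, 4, 5, 5, 5, 4, 5, 5, 5, 4, 5, 5, 5, 4, 5, 5, 5, 4, 5, 5, 5, 4, 5, 5, 5, 4, 5, 5, 5, 4, 5, 5, 5, 4, 5, 5, 5], [4, 6, 4, 6, 4, 6, 4, 6, 4, 6, 4, 6, 4, 6, 4, 6, 4, 6, 4, 6], [4, 6, 6, 6, 4, 6, 6, 6, 4, 6, 6, 6, 4, 6, 6, 6, 4, 6, 6, 6, 4, 6, 6, 6, 4, 6, 6, 6, 4, 6, 6, 6, 4, 6, 6, 6, 4, 6, 6, 6], [5, 4, 5, 4, 5, 4, 5, 4, 5, 4, 5, 4, 5, 4, 5, 4, 5, 4, 5, 4],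 [5, 4, 6, 4, 5, 5, 5, 4, 6, 4, 7, 7], [6, 4, 6, 6, 6, 4, 6, 4, 6, 6, 6, 4], [5, 5, 5, 5, 4, 6, 4, 5, 5, 4, 6, 6, 4, 8], [6, 4, 6, 4, 6, 4, 5, 4, 6, 4, 6, 4, 5, 4, 7]]
def rt : RT := (.node 78 (.node 39 (.node 19 (.node 9 (.node 4 (.node 2 (.node 1 (.leaf 0 0 []) (.leaf 1 11 [8, 6, 4, 5, 4, 6, 6, 4, 5, 5, 4, 5])) (.node 3 (.leaf 5 10 [4, 6, 4, 6, 4, 6, 4, 6, 4, 6, 4, 6, 4, 6, 4, 6, 4, 6, 4, 6]) (.leaf 2 5 [5, 5, 5, 5, 5, 5, 5, 5, 5, 5]))) (.node 6 (.node 5 (.leaf 1 5 [6, 4, 5, 5, 4, 5, 8, 6, 4, 5, 4, 6]) (.leaf 2 4 [5, 5, 5, 5, 5, 5, 5, 5, 5, 5])) (.node 7 (.leaf 11 4 [5, 5, 5, 4, 6, 4, 7, 7, 5, 4, 6, 4]) (.node 8 (.leaf 2 7 [5, 5, 5, 5, 5, 5, 5, 5, 5, 5]) (.leaf 12 5 [4, 6, 4, 6,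 6, 6, 4, 6, 4, 6, 6, 6]))))) (.node 14 (.node 11 (.node 10 (.leaf 12 7 [4, 6, 6, 6, 4, 6, 4, 6, 6, 6, 4, 6]) (.leaf 12 8 [6, 6, 6, 4, 6, 4, 6, 6, 6, 4, 6, 4])) (.node 12 (.leaf 12 9 [6, 6, 4, 6, 4, 6, 6, 6, 4, 6, 4, 6]) (.node 13 (.leaf 12 11 [4, 6, 4, 6, 6, 6, 4, 6, 4, 6, 6, 6]) (.leaf 12 10 [6, 4, 6, 4, 6, 6, 6, 4, 6, 4, 6, 6])))) (.node 16 (.node 15 (.leaf 12 6 [6, 4, 6, 6, 6, 4, 6, 4, 6, 6, 6, 4]) (.leaf 5 8 [4, 6, 4, 6, 4, 6, 4, 6, 4, 6, 4, 6, 4, 6, 4, 6, 4, 6, 4, 6])) (.node 17 (.leaf 6 11 [6, 4, 5, 4, 6, 4, 5, 4, 6, 4, 5, 4, 6, 4, 5, 4, 6, 4, 5, 4]) (.node 18 (.leaf 3 7 [6, 6, 6, 6, 6, 6, 6, 6, 6, 6]) (.leaf 5 5 [6, 4, 6, 4, 6, 4, 6, 4, 6, 4, 6, 4, 6, 4, 6, 4, 6, 4, 6, 4]))))))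 (.node 29 (.node 24 (.node 21 (.node 20 (.leaf 9 30 [6, 6, 4, 6, 6, 6, 4, 6, 6, 6, 4, 6, 6, 6, 4, 6, 6, 6, 4, 6, 6, 6, 4, 6, 6, 6, 4, 6, 6, 6, 4, 6, 6, 6, 4, 6, 6, 6, 4, 6]) (.leaf 3 5 [6, 6, 6, 6, 6, 6, 6, 6, 6, 6])) (.node 22 (.leaf 3 3 [6, 6, 6, 6, 6, 6, 6, 6, 6, 6]) (.node 23 (.leaf 4 7 [5, 4, 5, 4, 5, 4, 5, 4, 5, 4, 5, 4, 5, 4, 5, 4, 5, 4, 5, 4]) (.leaf 11 10 [7, 7, 5, 4, 6, 4, 5, 5, 5, 4, 6, 4])))) (.node 26 (.node 25 (.leaf 11 5 [5, 5, 4, 6, 4, 7, 7, 5, 4, 6, 4, 5]) (.leaf 1 3 [4, 6, 6, 4, 5, 5, 4, 5, 8, 6, 4, 5])) (.node 27 (.leaf 12 0 [6, 4, 6, 6, 6, 4, 6, 4, 6, 6, 6, 4]) (.node 28 (.leaf 5 2 [4, 6, 4, 6, 4, 6, 4, 6, 4, 6, 4, 6, 4, 6, 4, 6, 4, 6, 4, 6]) (.leaf 13 6 [4,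 5, 5, 4, 6, 6, 4, 8, 5, 5, 5, 5, 4, 6]))))) (.node 34 (.node 31 (.node 30 (.leaf 13 13 [8, 5, 5, 5, 5, 4, 6, 4, 5, 5, 4, 6, 6, 4]) (.leaf 13 2 [5, 5, 4, 6, 4, 5, 5, 4, 6, 6, 4, 8, 5, 5])) (.node 32 (.leaf 13 12 [4, 8, 5, 5, 5, 5, 4, 6, 4, 5, 5, 4, 6, 6]) (.node 33 (.leaf 13 3 [5, 4, 6, 4, 5, 5, 4, 6, 6, 4, 8, 5, 5, 5]) (.leaf 13 0 [5, 5, 5, 5, 4, 6, 4, 5, 5, 4, 6, 6, 4, 8])))) (.node 36 (.node 35 (.leaf 13 8 [5, 4, 6, 6, 4, 8, 5, 5, 5, 5, 4, 6, 4, 5]) (.leaf 13 1 [5, 5, 5, 4, 6, 4, 5, 5, 4, 6, 6, 4, 8, 5])) (.node 37 (.leaf 13 4 [4, 6, 4, 5, 5, 4, 6, 6, 4, 8, 5, 5, 5, 5]) (.node 38 (.leaf 13 11 [6, 4, 8, 5, 5, 5, 5, 4, 6, 4, 5, 5, 4, 6]) (.leaf 13 5 [6, 4, 5, 5, 4, 6, 6, 4, 8, 5,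 5, 5, 5, 4]))))))) (.node 58 (.node 48 (.node 43 (.node 41 (.node 40 (.leaf 13 10 [6, 6, 4, 8, 5, 5, 5, 5, 4, 6, 4, 5, 5, 4]) (.leaf 12 3 [6, 6, 4, 6, 4, 6, 6, 6, 4, 6, 4, 6])) (.node 42 (.leaf 11 11 [7, 5, 4, 6, 4, 5, 5, 5, 4, 6, 4, 7]) (.leaf 1 4 [6, 6, 4, 5, 5, 4, 5, 8, 6, 4, 5, 4]))) (.node 45 (.node 44 (.leaf 12 1 [4, 6, 6, 6, 4, 6, 4, 6, 6, 6, 4, 6]) (.leaf 1 2 [5, 4, 6, 6, 4, 5, 5, 4, 5, 8, 6, 4])) (.node 46 (.leaf 4 0 [4, 5, 4, 5, 4, 5, 4, 5, 4, 5, 4, 5, 4, 5, 4, 5, 4, 5, 4, 5]) (.node 47 (.leaf 1 9 [4, 5, 8, 6, 4, 5, 4, 6, 6, 4, 5, 5]) (.leaf 4 2 [4, 5, 4, 5, 4, 5, 4, 5, 4, 5, 4, 5, 4, 5, 4, 5, 4, 5, 4, 5]))))) (.node 53 (.node 50 (.node 49 (.leaf 12 2 [6, 6, 6, 4, 6, 4,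 6, 6, 6, 4, 6, 4]) (.leaf 1 8 [5, 4, 5, 8, 6, 4, 5, 4, 6, 6, 4, 5])) (.node 51 (.leaf 2 8 [5, 5, 5, 5, 5, 5, 5, 5, 5, 5]) (.node 52 (.leaf 2 3 [5, 5, 5, 5, 5, 5, 5, 5, 5, 5]) (.leaf 5 14 [4, 6, 4, 6, 4, 6, 4, 6, 4, 6, 4, 6, 4, 6, 4, 6, 4, 6, 4, 6])))) (.node 55 (.node 54 (.leaf 6 0 [4, 5, 4, 6, 4, 5, 4, 6, 4, 5, 4, 6, 4, 5, 4, 6, 4, 5, 4, 6]) (.leaf 6 9 [5, 4, 6, 4, 5, 4, 6, 4, 5, 4, 6, 4, 5, 4, 6, 4, 5, 4, 6, 4])) (.node 56 (.leaf 13 9 [4, 6, 6, 4, 8, 5, 5, 5, 5, 4, 6, 4, 5, 5]) (.node 57 (.leaf 5 6 [4, 6, 4, 6, 4, 6, 4, 6, 4, 6, 4, 6, 4, 6, 4, 6, 4, 6, 4, 6]) (.leaf 1 0 [6, 4, 5, 4, 6, 6, 4, 5, 5, 4, 5, 8])))))) (.node 68 (.node 63 (.node 60 (.node 59 (.leaf 11 2 [6, 4, 5, 5,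 5, 4, 6, 4, 7, 7, 5, 4]) (.leaf 13 7 [5, 5, 4, 6, 6, 4, 8, 5, 5, 5, 5, 4, 6, 4])) (.node 61 (.leaf 7 27 [5, 4, 5, 5, 5, 4, 5, 5, 5, 4, 5, 5, 5, 4, 5, 5, 5, 4, 5, 5, 5, 4, 5, 5, 5, 4, 5, 5, 5, 4, 5, 5, 5, 4, 5, 5, 5, 4, 5, 5]) (.node 62 (.leaf 2 1 [5, 5, 5, 5, 5, 5, 5, 5, 5, 5]) (.leaf 4 10 [4, 5, 4, 5, 4, 5, 4, 5, 4, 5, 4, 5, 4, 5, 4, 5, 4, 5, 4, 5])))) (.node 65 (.node 64 (.leaf 4 8 [4, 5, 4, 5, 4, 5, 4, 5, 4, 5, 4, 5, 4, 5, 4, 5, 4, 5, 4, 5]) (.leaf 1 1 [4, 5, 4, 6, 6, 4, 5, 5, 4, 5, 8, 6])) (.node 66 (.leaf 4 16 [4, 5, 4, 5, 4, 5, 4, 5, 4, 5, 4, 5, 4, 5, 4, 5, 4, 5, 4, 5]) (.node 67 (.leaf 2 2 [5, 5, 5, 5, 5, 5, 5, 5, 5, 5]) (.leaf 11 0 [5, 4, 6, 4, 5, 5, 5, 4, 6, 4, 7, 7])))))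 (.node 73 (.node 70 (.node 69 (.leaf 9 19 [6, 4, 6, 6, 6, 4, 6, 6, 6, 4, 6, 6, 6, 4, 6, 6, 6, 4, 6, 6, 6, 4, 6, 6, 6, 4, 6, 6, 6, 4, 6, 6, 6, 4, 6, 6, 6, 4, 6, 6]) (.leaf 3 8 [6, 6, 6, 6, 6, 6, 6, 6, 6, 6])) (.node 71 (.leaf 6 10 [4, 6, 4, 5, 4, 6, 4, 5, 4, 6, 4, 5, 4, 6, 4, 5, 4, 6, 4, 5]) (.node 72 (.leaf 4 17 [5, 4, 5, 4, 5, 4, 5, 4, 5, 4, 5, 4, 5, 4, 5, 4, 5, 4, 5, 4]) (.leaf 6 12 [4, 5, 4, 6, 4, 5, 4, 6, 4, 5, 4, 6, 4, 5, 4, 6, 4, 5, 4, 6])))) (.node 75 (.node 74 (.leaf 6 16 [4, 5, 4, 6, 4, 5, 4, 6, 4, 5, 4, 6, 4, 5, 4, 6, 4, 5, 4, 6]) (.leaf 11 7 [4, 6, 4, 7, 7, 5, 4, 6, 4, 5, 5, 5])) (.node 76 (.leaf 1 6 [4, 5, 5, 4, 5, 8, 6, 4, 5, 4, 6, 6]) (.node 77 (.leaf 11 1 [4, 6, 4,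 5, 5, 5, 4, 6, 4, 7, 7, 5]) (.leaf 12 4 [6, 4, 6, 4, 6, 6, 6, 4, 6, 4, 6, 6])))))))) (.node 117 (.node 97 (.node 87 (.node 82 (.node 80 (.node 79 (.leaf 2 6 [5, 5, 5, 5, 5, 5, 5, 5, 5, 5]) (.leaf 3 2 [6, 6, 6, 6, 6, 6, 6, 6, 6, 6])) (.node 81 (.leaf 11 3 [4, 5, 5, 5, 4, 6, 4, 7, 7, 5, 4, 6]) (.leaf 4 3 [5, 4, 5, 4, 5, 4, 5, 4, 5, 4, 5, 4, 5, 4, 5, 4, 5, 4, 5, 4]))) (.node 84 (.node 83 (.leaf 5 0 [4, 6, 4, 6, 4, 6, 4, 6, 4, 6, 4, 6, 4, 6, 4, 6, 4, 6, 4, 6]) (.leaf 11 8 [6, 4, 7, 7, 5, 4, 6, 4, 5, 5, 5, 4])) (.node 85 (.leaf 6 15 [6, 4, 5, 4, 6, 4, 5, 4, 6, 4, 5, 4, 6, 4, 5, 4, 6, 4, 5, 4]) (.node 86 (.leaf 1 7 [5, 5, 4, 5, 8, 6, 4, 5, 4, 6, 6, 4]) (.leaf 11 6 [5, 4, 6, 4, 7, 7, 5,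 4, 6, 4, 5, 5]))))) (.node 92 (.node 89 (.node 88 (.leaf 3 6 [6, 6, 6, 6, 6, 6, 6, 6, 6, 6]) (.leaf 5 12 [4, 6, 4, 6, 4, 6, 4, 6, 4, 6, 4, 6, 4, 6, 4, 6, 4, 6, 4, 6])) (.node 90 (.leaf 11 9 [4, 7, 7, 5, 4, 6, 4, 5, 5, 5, 4, 6]) (.node 91 (.leaf 3 1 [6, 6, 6, 6, 6, 6, 6, 6, 6, 6]) (.leaf 6 2 [4, 6, 4, 5, 4, 6, 4, 5, 4, 6, 4, 5, 4, 6, 4, 5, 4, 6, 4, 5])))) (.node 94 (.node 93 (.leaf 14 6 [5, 4, 6, 4, 6, 4, 5, 4, 7, 6, 4, 6, 4, 6, 4]) (.leaf 14 12 [5, 4, 7, 6, 4, 6, 4, 6, 4, 5, 4, 6, 4, 6, 4])) (.node 95 (.leaf 14 14 [7, 6, 4, 6, 4, 6, 4, 5, 4, 6, 4, 6, 4, 5, 4]) (.node 96 (.leaf 14 13 [4, 7, 6, 4, 6, 4, 6, 4, 5, 4, 6, 4, 6, 4, 5]) (.leaf 14 1 [4, 6, 4, 6, 4, 5, 4, 6, 4, 6, 4, 5, 4,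 7, 6])))))) (.node 107 (.node 102 (.node 99 (.node 98 (.leaf 14 3 [4, 6, 4, 5, 4, 6, 4, 6, 4, 5, 4, 7, 6, 4, 6]) (.leaf 14 8 [6, 4, 6, 4, 5, 4, 7, 6, 4, 6, 4, 6, 4, 5, 4])) (.node 100 (.leaf 14 11 [4, 5, 4, 7, 6, 4, 6, 4, 6, 4, 5, 4, 6, 4, 6]) (.node 101 (.leaf 14 5 [4, 5, 4, 6, 4, 6, 4, 5, 4, 7, 6, 4, 6, 4, 6]) (.leaf 14 9 [4, 6, 4, 5, 4, 7, 6, 4, 6, 4, 6, 4, 5, 4, 6])))) (.node 104 (.node 103 (.leaf 14 4 [6, 4, 5, 4, 6, 4, 6, 4, 5, 4, 7, 6, 4, 6, 4]) (.leaf 14 10 [6, 4, 5, 4, 7, 6, 4, 6, 4, 6, 4, 5, 4, 6, 4])) (.node 105 (.leaf 14 7 [4, 6, 4, 6, 4, 5, 4, 7, 6, 4, 6, 4, 6, 4, 5]) (.node 106 (.leaf 14 2 [6, 4, 6, 4, 5, 4, 6, 4, 6, 4, 5, 4, 7, 6, 4]) (.leaf 14 0 [6, 4, 6, 4, 6, 4,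 5, 4, 6, 4, 6, 4, 5, 4, 7]))))) (.node 112 (.node 109 (.node 108 (.leaf 4 12 [4, 5, 4, 5, 4, 5, 4, 5, 4, 5, 4, 5, 4, 5, 4, 5, 4, 5, 4, 5]) (.leaf 7 21 [5, 5, 5, 4, 5, 5, 5, 4, 5, 5, 5, 4, 5, 5, 5, 4, 5, 5, 5, 4, 5, 5, 5, 4, 5, 5, 5, 4, 5, 5, 5, 4, 5, 5, 5, 4, 5, 5, 5, 4])) (.node 110 (.leaf 7 28 [4, 5, 5, 5, 4, 5, 5, 5, 4, 5, 5, 5, 4, 5, 5, 5, 4, 5, 5, 5, 4, 5, 5, 5, 4, 5, 5, 5, 4, 5, 5, 5, 4, 5, 5, 5, 4, 5, 5, 5]) (.node 111 (.leaf 7 17 [5, 5, 5, 4, 5, 5, 5, 4, 5, 5, 5, 4, 5, 5, 5, 4, 5, 5, 5, 4, 5, 5, 5, 4, 5, 5, 5, 4, 5, 5, 5, 4, 5, 5, 5, 4, 5, 5, 5, 4]) (.leaf 10 6 [5, 4, 5, 4, 5, 4, 5, 4, 5, 4, 5, 4, 5, 4, 5, 4, 5, 4, 5, 4])))) (.node 114 (.node 113 (.leaf 7 32 [4, 5, 5, 5,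 4, 5, 5, 5, 4, 5, 5, 5, 4, 5, 5, 5, 4, 5, 5, 5, 4, 5, 5, 5, 4, 5, 5, 5, 4, 5, 5, 5, 4, 5, 5, 5, 4, 5, 5, 5]) (.leaf 7 12 [4, 5, 5, 5, 4, 5, 5, 5, 4, 5, 5, 5, 4, 5, 5, 5, 4, 5, 5, 5, 4, 5, 5, 5, 4, 5, 5, 5, 4, 5, 5, 5, 4, 5, 5, 5, 4, 5, 5, 5])) (.node 115 (.leaf 10 14 [5, 4, 5, 4, 5, 4, 5, 4, 5, 4, 5, 4, 5, 4, 5, 4, 5, 4, 5, 4]) (.node 116 (.leaf 5 9 [6, 4, 6, 4, 6, 4, 6, 4, 6, 4, 6, 4, 6, 4, 6, 4, 6, 4, 6, 4]) (.leaf 3 4 [6, 6, 6, 6, 6, 6, 6, 6, 6, 6]))))))) (.node 136 (.node 126 (.node 121 (.node 119 (.node 118 (.leaf 4 6 [4, 5, 4, 5, 4, 5, 4, 5, 4, 5, 4, 5, 4, 5, 4, 5, 4, 5, 4, 5]) (.leaf 7 7 [5, 4, 5, 5, 5, 4, 5, 5, 5, 4, 5, 5, 5, 4, 5, 5, 5, 4, 5, 5, 5, 4, 5, 5, 5, 4, 5, 5,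 5, 4, 5, 5, 5, 4, 5, 5, 5, 4, 5, 5])) (.node 120 (.leaf 4 18 [4, 5, 4, 5, 4, 5, 4, 5, 4, 5, 4, 5, 4, 5, 4, 5, 4, 5, 4, 5]) (.leaf 5 1 [6, 4, 6, 4, 6, 4, 6, 4, 6, 4, 6, 4, 6, 4, 6, 4, 6, 4, 6, 4]))) (.node 123 (.node 122 (.leaf 6 19 [6, 4, 5, 4, 6, 4, 5, 4, 6, 4, 5, 4, 6, 4, 5, 4, 6, 4, 5, 4]) (.leaf 7 2 [5, 5, 4, 5, 5, 5, 4, 5, 5, 5, 4, 5, 5, 5, 4, 5, 5, 5, 4, 5, 5, 5, 4, 5, 5, 5, 4, 5, 5, 5, 4, 5, 5, 5, 4, 5, 5, 5, 4, 5])) (.node 124 (.leaf 4 14 [4, 5, 4, 5, 4, 5, 4, 5, 4, 5, 4, 5, 4, 5, 4, 5, 4, 5, 4, 5]) (.node 125 (.leaf 9 5 [6, 6, 6, 4, 6, 6, 6, 4, 6, 6, 6, 4, 6, 6, 6, 4, 6, 6, 6, 4, 6, 6, 6, 4, 6, 6, 6, 4, 6, 6, 6, 4, 6, 6, 6, 4, 6, 6, 6, 4]) (.leaf 7 6 [5, 5, 4, 5, 5, 5,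 4, 5, 5, 5, 4, 5, 5, 5, 4, 5, 5, 5, 4, 5, 5, 5, 4, 5, 5, 5, 4, 5, 5, 5, 4, 5, 5, 5, 4, 5, 5, 5, 4, 5]))))) (.node 131 (.node 128 (.node 127 (.leaf 6 14 [4, 6, 4, 5, 4, 6, 4, 5, 4, 6, 4, 5, 4, 6, 4, 5, 4, 6, 4, 5]) (.leaf 6 13 [5, 4, 6, 4, 5, 4, 6, 4, 5, 4, 6, 4, 5, 4, 6, 4, 5, 4, 6, 4])) (.node 129 (.leaf 7 10 [5, 5, 4, 5, 5, 5, 4, 5, 5, 5, 4, 5, 5, 5, 4, 5, 5, 5, 4, 5, 5, 5, 4, 5, 5, 5, 4, 5, 5, 5, 4, 5, 5, 5, 4, 5, 5, 5, 4, 5]) (.node 130 (.leaf 4 5 [5, 4, 5, 4, 5, 4, 5, 4, 5, 4, 5, 4, 5, 4, 5, 4, 5, 4, 5, 4]) (.leaf 4 13 [5, 4, 5, 4, 5, 4, 5, 4, 5, 4, 5, 4, 5, 4, 5, 4, 5, 4, 5, 4])))) (.node 133 (.node 132 (.leaf 6 17 [5, 4, 6, 4, 5, 4, 6, 4, 5, 4, 6, 4, 5, 4, 6, 4, 5, 4, 6,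 4]) (.leaf 9 25 [6, 6, 6, 4, 6, 6, 6, 4, 6, 6, 6, 4, 6, 6, 6, 4, 6, 6, 6, 4, 6, 6, 6, 4, 6, 6, 6, 4, 6, 6, 6, 4, 6, 6, 6, 4, 6, 6, 6, 4])) (.node 134 (.leaf 9 32 [4, 6, 6, 6, 4, 6, 6, 6, 4, 6, 6, 6, 4, 6, 6, 6, 4, 6, 6, 6, 4, 6, 6, 6, 4, 6, 6, 6, 4, 6, 6, 6, 4, 6, 6, 6, 4, 6, 6, 6]) (.node 135 (.leaf 9 18 [6, 6, 4, 6, 6, 6, 4, 6, 6, 6, 4, 6, 6, 6, 4, 6, 6, 6, 4, 6, 6, 6, 4, 6, 6, 6, 4, 6, 6, 6, 4, 6, 6, 6, 4, 6, 6, 6, 4, 6]) (.leaf 5 16 [4, 6, 4, 6, 4, 6, 4, 6, 4, 6, 4, 6, 4, 6, 4, 6, 4, 6, 4, 6])))))) (.node 146 (.node 141 (.node 138 (.node 137 (.leaf 9 37 [6, 6, 6, 4, 6, 6, 6, 4, 6, 6, 6, 4, 6, 6, 6, 4, 6, 6, 6, 4, 6, 6, 6, 4, 6, 6, 6, 4, 6, 6, 6, 4, 6, 6, 6, 4, 6, 6, 6, 4]) (.leaf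 9 39 [6, 4, 6, 6, 6, 4, 6, 6, 6, 4, 6, 6, 6, 4, 6, 6, 6, 4, 6, 6, 6, 4, 6, 6, 6, 4, 6, 6, 6, 4, 6, 6, 6, 4, 6, 6, 6, 4, 6, 6])) (.node 139 (.leaf 9 7 [6, 4, 6, 6, 6, 4, 6, 6, 6, 4, 6, 6, 6, 4, 6, 6, 6, 4, 6, 6, 6, 4, 6, 6, 6, 4, 6, 6, 6, 4, 6, 6, 6, 4, 6, 6, 6, 4, 6, 6]) (.node 140 (.leaf 4 11 [5, 4, 5, 4, 5, 4, 5, 4, 5, 4, 5, 4, 5, 4, 5, 4, 5, 4, 5, 4]) (.leaf 7 33 [5, 5, 5, 4, 5, 5, 5, 4, 5, 5, 5, 4, 5, 5, 5, 4, 5, 5, 5, 4, 5, 5, 5, 4, 5, 5, 5, 4, 5, 5, 5, 4, 5, 5, 5, 4, 5, 5, 5, 4])))) (.node 143 (.node 142 (.leaf 6 5 [5, 4, 6, 4, 5, 4, 6, 4, 5, 4, 6, 4, 5, 4, 6, 4, 5, 4, 6, 4]) (.leaf 7 34 [5, 5, 4, 5, 5, 5, 4, 5, 5, 5, 4, 5, 5, 5, 4, 5, 5, 5, 4, 5, 5, 5, 4, 5, 5, 5, 4, 5, 5,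 5, 4, 5, 5, 5, 4, 5, 5, 5, 4, 5])) (.node 144 (.leaf 9 9 [6, 6, 6, 4, 6, 6, 6, 4, 6, 6, 6, 4, 6, 6, 6, 4, 6, 6, 6, 4, 6, 6, 6, 4, 6, 6, 6, 4, 6, 6, 6, 4, 6, 6, 6, 4, 6, 6, 6, 4]) (.node 145 (.leaf 9 0 [4, 6, 6, 6, 4, 6, 6, 6, 4, 6, 6, 6, 4, 6, 6, 6, 4, 6, 6, 6, 4, 6, 6, 6, 4, 6, 6, 6, 4, 6, 6, 6, 4, 6, 6, 6, 4, 6, 6, 6]) (.leaf 7 30 [5, 5, 4, 5, 5, 5, 4, 5, 5, 5, 4, 5, 5, 5, 4, 5, 5, 5, 4, 5, 5, 5, 4, 5, 5, 5, 4, 5, 5, 5, 4, 5, 5, 5, 4, 5, 5, 5, 4, 5]))))) (.node 151 (.node 148 (.node 147 (.leaf 7 15 [5, 4, 5, 5, 5, 4, 5, 5, 5, 4, 5, 5, 5, 4, 5, 5, 5, 4, 5, 5, 5, 4, 5, 5, 5, 4, 5, 5, 5, 4, 5, 5, 5, 4, 5, 5, 5, 4, 5, 5]) (.leaf 7 35 [5, 4, 5, 5, 5, 4, 5, 5, 5, 4, 5, 5, 5, 4, 5, 5,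 5, 4, 5, 5, 5, 4, 5, 5, 5, 4, 5, 5, 5, 4, 5, 5, 5, 4, 5, 5, 5, 4, 5, 5])) (.node 149 (.leaf 9 26 [6, 6, 4, 6, 6, 6, 4, 6, 6, 6, 4, 6, 6, 6, 4, 6, 6, 6, 4, 6, 6, 6, 4, 6, 6, 6, 4, 6, 6, 6, 4, 6, 6, 6, 4, 6, 6, 6, 4, 6]) (.node 150 (.leaf 8 9 [6, 4, 6, 4, 6, 4, 6, 4, 6, 4, 6, 4, 6, 4, 6, 4, 6, 4, 6, 4]) (.leaf 7 0 [4, 5, 5, 5, 4, 5, 5, 5, 4, 5, 5, 5, 4, 5, 5, 5, 4, 5, 5, 5, 4, 5, 5, 5, 4, 5, 5, 5, 4, 5, 5, 5, 4, 5, 5, 5, 4, 5, 5, 5])))) (.node 153 (.node 152 (.leaf 7 38 [5, 5, 4, 5, 5, 5, 4, 5, 5, 5, 4, 5, 5, 5, 4, 5, 5, 5, 4, 5, 5, 5, 4, 5, 5, 5, 4, 5, 5, 5, 4, 5, 5, 5, 4, 5, 5, 5, 4, 5]) (.leaf 9 4 [4, 6, 6, 6, 4, 6, 6, 6, 4, 6, 6, 6, 4, 6, 6, 6, 4, 6, 6, 6, 4, 6, 6, 6, 4, 6, 6,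 6, 4, 6, 6, 6, 4, 6, 6, 6, 4, 6, 6, 6])) (.node 154 (.leaf 5 7 [6, 4, 6, 4, 6, 4, 6, 4, 6, 4, 6, 4, 6, 4, 6, 4, 6, 4, 6, 4]) (.node 155 (.leaf 9 15 [6, 4, 6, 6, 6, 4, 6, 6, 6, 4, 6, 6, 6, 4, 6, 6, 6, 4, 6, 6, 6, 4, 6, 6, 6, 4, 6, 6, 6, 4, 6, 6, 6, 4, 6, 6, 6, 4, 6, 6]) (.leaf 9 29 [6, 6, 6, 4, 6, 6, 6, 4, 6, 6, 6, 4, 6, 6, 6, 4, 6, 6, 6, 4, 6, 6, 6, 4, 6, 6, 6, 4, 6, 6, 6, 4, 6, 6, 6, 4, 6, 6, 6, 4])))))))))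

theorem b0 : allR (guardB 28 (blk fc sc rt.get Cfsg.Agent.Lib.Helper3.J3.INV isH)) 5 0 = true := by decide +kernel
theorem c0 : allR (guardB 64 (cblk fc nc cc 7168 2040 79228162514264337593543950336 gens)) 5 0 = true := by decide +kernel
theorem c1 : allR (guardB 64 (cblk fc nc cc 7168 2040 79228162514264337593543950336 gens)) 5 32 = true := by decide +kernel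

theorem chkAll : ∀ j < 28, blk fc sc rt.get Cfsg.Agent.Lib.Helper3.J3.INV isH j = true :=
  guardB_spec (D := 5) b0 (by norm_num)

theorem clAll : ∀ jb < 64, cblk fc nc cc (256 * 28) 2040 79228162514264337593543950336 gens jb = true :=
  guardB_spec (D := 6) (allR_join c0 c1 (by norm_num)) (by norm_num)

theorem card_eq : Nat.card (lgrp (vL Cfsg.Agent.Lib.Helper3.J3.ntl Cfsg.Agent.Lib.Helper3.J3.deg) gens) = 2040 * Nat.card (lgrp (vL Cfsg.Agent.Lib.Helper3.J3.ntl Cfsg.Agent.Lib.Helper3.J3.deg) hl) :=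
  Cfsg.Agent.Lib.Helper3.J3.setup.level gens hl dl BR (by decide +kernel) (by decide +kernel) (by decide +kernel) (by decide +kernel)
    (by decide +kernel) rt (by decide +kernel) isH (fun l h => of_decide_eq_true h) fc sc nc cc 28 64 2040 79228162514264337593543950336
    (by norm_num) (by norm_num) (by decide +kernel) (by decide) chkAll clAll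
    1 1 13 (by norm_num [Cfsg.Agent.Lib.Helper3.J3.deg]) (by norm_num [Cfsg.Agent.Lib.Helper3.J3.deg]) (by decide +kernel) (by decide +kernel)

end Cfsg.Agent.Lib.Helper3.J3.L2
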